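import Mathlib.RingTheory.AdicCompletion.Basic
import Mathlib.RingTheory.Noetherian.Basic
import Mathlib.RingTheory.Polynomial.Basic
import Mathlib.RingTheory.MvPolynomial.Homogeneous

/-!
# Noetherianity of adically complete rings

`isNoetherianRing_of_isAdicComplete`: if `B` is complete for a finitely generated ideal `I` and
`B ⧸ I` is Noetherian, then so is `B`.
-/

universe u

open MvPolynomial

namespace Groth.Agent.LocalCrit

variable {B : Type u} [CommRing B] {r : ℕ} (f : Fin r → B)

local notation "𝐈" => Ideal.span (Set.range f)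

theorem eval_mem_of_isHomogeneous (K : Ideal B) {n : ℕ} {F : MvPolynomial (Fin r) B}
    (hF : F.IsHomogeneous n) (h : ∀ d, coeff d F ∈ K) : eval f F ∈ K * 𝐈 ^ n := by
  rw [MvPolynomial.eval_eq]
  refine Ideal.sum_mem _ fun d hd => Ideal.mul_mem_mul (h d) ?_
  have hn : ∑ i ∈ d.support, d i = n := by
    have := hF (mem_support_iff.mp hd)
    simpa [Finsupp.weight_apply, Finsupp.sum] using this
  rw [← hn, ← Finset.prod_pow_eq_pow_sum]
  exact Ideal.prod_mem_prod fun i _ => Ideal.pow_mem_pow (Ideal.subset_span (Set.mem_range_self i)) _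

theorem eval_mem_pow_of_isHomogeneous {n : ℕ} {F : MvPolynomial (Fin r) B} (hF : F.IsHomogeneous n) :
    eval f F ∈ 𝐈 ^ n := by
  simpa using eval_mem_of_isHomogeneous f ⊤ hF fun _ => Submodule.mem_top

theorem exists_isHomogeneous_eval_eq {n : ℕ} {b : B} (hb : b ∈ 𝐈 ^ n) :
    ∃ F : MvPolynomial (Fin r) B, F.IsHomogeneous n ∧ eval f F = b := by
  induction n generalizing b with
  | zero => exact ⟨C b, isHomogeneous_C _ _, by simp⟩
  | succ n ih =>
    rw [pow_succ] at hb
    induction hb using Submodule.mul_induction_on' with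
    | mem_mul_mem a ha c hc =>
      obtain ⟨F, hF, hFa⟩ := ih ha
      obtain ⟨g, rfl⟩ := Ideal.mem_span_range_iff_exists_fun.mp hc
      refine ⟨F * ∑ i, C (g i) * X i, hF.mul (IsHomogeneous.sum _ _ _ fun i _ => ?_), by simp [hFa]⟩
      simpa using (isHomogeneous_C (Fin r) (g i)).mul (isHomogeneous_X B i)
    | add a _ c _ ha hc =>
      obtain ⟨F, hF, rfl⟩ := ha
      obtain ⟨G, hG, rfl⟩ := hc
      exact ⟨F + G, hF.add hG, by simp⟩

theorem homogeneousComponent_mul_of_isHomogeneous {σ : Type*} {R : Type u} [CommRing R] {d : ℕ}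
    (h : MvPolynomial σ R) {F : MvPolynomial σ R} (hF : F.IsHomogeneous d) (n : ℕ) :
    homogeneousComponent n (h * F) = if d ≤ n then homogeneousComponent (n - d) h * F else 0 := by
  conv_lhs => rw [← sum_homogeneousComponent h, Finset.sum_mul, map_sum]
  have hi : ∀ i, homogeneousComponent n (homogeneousComponent i h * F) =
      if n = i + d then homogeneousComponent i h * F else 0 := fun i =>
    homogeneousComponent_of_mem ((homogeneousComponent_isHomogeneous i h).mul hF)
  simp only [hi]
  split_ifs with hd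
  · rw [Finset.sum_eq_single (n - d)]
    · rw [if_pos (by omega)]
    · exact fun i _ hne => if_neg (by omega)
    · intro hmem
      rw [if_pos (by omega), homogeneousComponent_eq_zero, zero_mul]
      simp only [Finset.mem_range] at hmem
      omega
  · exact Finset.sum_eq_zero fun i _ => if_neg (by omega)

theorem homogeneousComponent_map {σ : Type*} {R S : Type u} [CommRing R] [CommRing S] (g : R →+* S)
    (n : ℕ) (F : MvPolynomial σ R) :
    homogeneousComponent n (map g F) = map g (homogeneousComponent n F) := by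
  ext d
  simp only [coeff_homogeneousComponent, coeff_map]
  split_ifs <;> simp

/-- A ring complete for a finitely generated ideal with Noetherian quotient is Noetherian. -/
theorem isNoetherianRing_of_isAdicComplete {B : Type u} [CommRing B] (I : Ideal B) (hI : I.FG)
    [IsAdicComplete I B] [IsNoetherianRing (B ⧸ I)] : IsNoetherianRing B := by
  classical
  obtain ⟨r, f, rfl⟩ := Submodule.fg_iff_exists_fin_generating_family.mp hI
  change IsAdicComplete (Ideal.span (Set.range f)) B at *
  set I := Ideal.span (Set.range f)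
  set π : MvPolynomial (Fin r) B →+* MvPolynomial (Fin r) (B ⧸ I) := map (Ideal.Quotient.mk I)
  refine (isNoetherianRing_iff_ideal_fg B).mpr fun J => ?_
  let S : Set (MvPolynomial (Fin r) (B ⧸ I)) := {G | ∃ (n : ℕ) (F : MvPolynomial (Fin r) B) (p : B),
    F.IsHomogeneous n ∧ π F = G ∧ p ∈ J ∧ eval f F - p ∈ I ^ (n + 1)}
  obtain ⟨t, htS, htspan⟩ := (Submodule.fg_span_iff_fg_span_finset_subset S).mp
    (IsNoetherian.noetherian (Submodule.span (MvPolynomial (Fin r) (B ⧸ I)) S))
  choose d F p hF hπ hp hFp using fun k : t => htS k.2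
  -- one approximation step
  have step : ∀ (n : ℕ) (b : B), b ∈ J → b ∈ I ^ n → ∃ c : t → B,
      (∀ k, c k ∈ I ^ (n - d k)) ∧ b - ∑ k, c k * p k ∈ I ^ (n + 1) := by
    intro n b hbJ hb
    obtain ⟨Fb, hFb, rfl⟩ := exists_isHomogeneous_eval_eq f hb
    have hmem : π Fb ∈ Submodule.span (MvPolynomial (Fin r) (B ⧸ I)) (t : Set _) := by
      rw [← htspan]
      exact Submodule.subset_span ⟨n, Fb, eval f Fb, hFb, rfl, hbJ, by simp⟩
    obtain ⟨a, -, ha⟩ := Submodule.mem_span_finset.mp hmem
    choose h hh using fun k : t => map_surjective (Ideal.Quotient.mk I) Ideal.Quotient.mk_surjective (a k)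
    let e : t → MvPolynomial (Fin r) B := fun k =>
      if d k ≤ n then homogeneousComponent (n - d k) (h k) else 0
    have heF : ∀ k, homogeneousComponent n (h k * F k) = e k * F k := fun k => by
      rw [homogeneousComponent_mul_of_isHomogeneous _ (hF k)]
      simp only [e]
      split_ifs <;> simp
    refine ⟨fun k => eval f (e k), fun k => ?_, ?_⟩
    · simp only [e]
      split_ifs
      · exact eval_mem_pow_of_isHomogeneous f (homogeneousComponent_isHomogeneous _ _)
      · simp
    have hD : (Fb - ∑ k, e k * F k).IsHomogeneous n := by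
      refine hFb.sub (IsHomogeneous.sum _ _ _ fun k _ => ?_)
      rw [← heF]
      exact homogeneousComponent_isHomogeneous _ _
    have hπD : π (Fb - ∑ k, e k * F k) = 0 := by
      have h1 : π Fb = π (∑ k, h k * F k) := by
        rw [map_sum, ← ha, ← Finset.sum_coe_sort]
        refine Finset.sum_congr rfl fun k _ => ?_
        rw [map_mul, hπ, smul_eq_mul]
        exact congrArg (· * _) (hh k).symm
      have h2 := congrArg (homogeneousComponent n) h1
      rw [homogeneousComponent_map, homogeneousComponent_map, homogeneousComponent_of_mem hFb,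
        if_pos rfl, map_sum (homogeneousComponent n), Finset.sum_congr rfl fun k _ => heF k] at h2
      rw [map_sub, h2, sub_self]
    have h3 : eval f (Fb - ∑ k, e k * F k) ∈ I ^ (n + 1) := by
      rw [pow_succ']
      exact eval_mem_of_isHomogeneous f I hD fun x =>
        Ideal.Quotient.eq_zero_iff_mem.mp (by rw [← coeff_map]; exact congrArg (coeff x) hπD)
    have h4 : ∑ k, eval f (e k) * (eval f (F k) - p k) ∈ I ^ (n + 1) := by
      refine Ideal.sum_mem _ fun k _ => ?_
      simp only [e]
      split_ifs with hd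
      · have := Ideal.mul_mem_mul
          (eval_mem_pow_of_isHomogeneous f (homogeneousComponent_isHomogeneous (n - d k) (h k)))
          (hFp k)
        rwa [← pow_add, show n - d k + (d k + 1) = n + 1 by omega] at this
      · simp
    have := add_mem h3 h4
    convert this using 1
    simp only [map_sub, map_sum, map_mul, mul_sub, Finset.sum_sub_distrib]
    ring
  refine ⟨Finset.univ.image p, le_antisymm (Submodule.span_le.mpr ?_) fun b hb => ?_⟩
  · intro x hx
    obtain ⟨k, -, rfl⟩ := Finset.mem_image.mp hx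
    exact hp k
  choose c hc hc' using step
  let seq : ∀ n : ℕ, {x : B // x ∈ J ∧ x ∈ I ^ n} := fun n => Nat.rec ⟨b, hb, by simp⟩
    (fun n x => ⟨x.1 - ∑ k, c n x.1 x.2.1 x.2.2 k * p k,
      sub_mem x.2.1 (Ideal.sum_mem _ fun k _ => J.mul_mem_left _ (hp k)),
      hc' n x.1 x.2.1 x.2.2⟩) n
  let co : ℕ → t → B := fun n => c n (seq n).1 (seq n).2.1 (seq n).2.2
  have hseq : ∀ N, b - ∑ k, (∑ n ∈ Finset.range N, co n k) * p k = (seq N).1 := by
    intro N
    induction N with
    | zero => simp [seq]
    | succ N ih =>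
      simp only [Finset.sum_range_succ, add_mul, Finset.sum_add_distrib]
      rw [← sub_sub, ih]
  have hcauchy : ∀ (k : t) {m N : ℕ}, m ≤ N →
      (∑ n ∈ Finset.range (N + d k), co n k) - (∑ n ∈ Finset.range (m + d k), co n k) ∈ I ^ m := by
    intro k m N hmN
    rw [← Finset.sum_Ico_eq_sub _ (by omega)]
    refine Ideal.sum_mem _ fun n hn => Ideal.pow_le_pow_right ?_ (hc n _ _ _ k)
    simp only [Finset.mem_Ico] at hn
    omega
  have hlim : ∀ k : t, ∃ L : B, ∀ N, (∑ n ∈ Finset.range (N + d k), co n k) - L ∈ I ^ N := by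
    intro k
    obtain ⟨L, hL⟩ := IsPrecomplete.prec' (I := I) (fun N => ∑ n ∈ Finset.range (N + d k), co n k)
      fun {m N} hmN => by
        rw [SModEq.sub_mem, Ideal.smul_eq_mul, Ideal.mul_top, ← neg_mem_iff, neg_sub]
        exact hcauchy k hmN
    exact ⟨L, fun N => by simpa only [SModEq.sub_mem, Ideal.smul_eq_mul, Ideal.mul_top] using hL N⟩
  choose L hL using hlim
  have hb0 : b - ∑ k, L k * p k = 0 := by
    refine IsHausdorff.haus' (I := I) _ fun N => ?_
    rw [SModEq.sub_mem, sub_zero, Ideal.smul_eq_mul, Ideal.mul_top]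
    have h1 : (seq (N + ∑ k, d k)).1 ∈ I ^ N :=
      Ideal.pow_le_pow_right (by omega) (seq (N + ∑ k, d k)).2.2
    rw [← hseq] at h1
    have h2 : ∑ k, ((∑ n ∈ Finset.range (N + ∑ k, d k), co n k) - L k) * p k ∈ I ^ N := by
      refine Ideal.sum_mem _ fun k _ => Ideal.mul_mem_right _ _ ?_
      have hd : d k ≤ ∑ j, d j := Finset.single_le_sum (fun j _ => Nat.zero_le (d j)) (Finset.mem_univ k)
      have := hL k (N + (∑ j, d j - d k))
      rw [show N + (∑ j, d j - d k) + d k = N + ∑ j, d j by omega] at this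
      exact Ideal.pow_le_pow_right (by omega) this
    convert add_mem h1 h2 using 1
    simp only [sub_mul, Finset.sum_sub_distrib]
    ring
  rw [sub_eq_zero.mp hb0]
  exact Ideal.sum_mem _ fun k _ => Ideal.mul_mem_left _ _
    (Submodule.subset_span (Finset.mem_image_of_mem p (Finset.mem_univ k)))

/-- If `A` is `J`-adically complete and `J ⧸ J ^ 2` is generated by finitely many elements of `J`,
then `J` is finitely generated. -/
theorem fg_of_isAdicComplete_of_le_sup_sq {A : Type u} [CommRing A] (J : Ideal A) [IsAdicComplete J A]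
    {r : ℕ} (f : Fin r → A) (hf : ∀ i, f i ∈ J) (h : J ≤ Ideal.span (Set.range f) ⊔ J ^ 2) : J.FG := by
  classical
  set J₀ := Ideal.span (Set.range f)
  have hJ₀ : J₀ ≤ J := Ideal.span_le.mpr (by rintro _ ⟨i, rfl⟩; exact hf i)
  have hpow : ∀ n, J ^ (n + 1) ≤ J ^ n * J₀ ⊔ J ^ (n + 2) := fun n => by
    calc J ^ (n + 1) = J ^ n * J := pow_succ J n
      _ ≤ J ^ n * (J₀ ⊔ J ^ 2) := Ideal.mul_mono_right h
      _ = J ^ n * J₀ ⊔ J ^ (n + 2) := by rw [Ideal.mul_sup, ← pow_add]
  have step : ∀ (n : ℕ) (x : A), x ∈ J ^ (n + 1) → ∃ c : Fin r → A,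
      (∀ i, c i ∈ J ^ n) ∧ x - ∑ i, c i * f i ∈ J ^ (n + 2) := by
    intro n x hx
    obtain ⟨y, hy, z, hz, rfl⟩ := Submodule.mem_sup.mp (hpow n hx)
    have hy' : y ∈ (J ^ n) • Submodule.span A (Set.range f) := hy
    obtain ⟨c, hc, hcy⟩ := (Submodule.mem_ideal_smul_span_iff_exists_sum (J ^ n) f y).mp hy'
    refine ⟨fun i => c i, fun i => hc i, ?_⟩
    have : ∑ i, c i * f i = y := by
      rw [← hcy, Finsupp.sum_fintype _ _ (fun i => by simp)]
      rfl
    rw [this]
    simpa using hz
  refine ⟨Finset.univ.image f, le_antisymm ?_ fun x hx => ?_⟩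
  · simpa [Submodule.span_le, Set.range_subset_iff] using hf
  choose c hc hc' using step
  let seq : ∀ n : ℕ, {y : A // y ∈ J ^ (n + 1)} := fun n => Nat.rec ⟨x, by simpa using hx⟩
    (fun n y => ⟨y.1 - ∑ i, c n y.1 y.2 i * f i, hc' n y.1 y.2⟩) n
  let co : ℕ → Fin r → A := fun n => c n (seq n).1 (seq n).2
  have hseq : ∀ N, x - ∑ i, (∑ n ∈ Finset.range N, co n i) * f i = (seq N).1 := by
    intro N
    induction N with
    | zero => simp [seq]
    | succ N ih =>
      simp only [Finset.sum_range_succ, add_mul, Finset.sum_add_distrib]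
      rw [← sub_sub, ih]
  have hlim : ∀ i : Fin r, ∃ L : A, ∀ N, (∑ n ∈ Finset.range N, co n i) - L ∈ J ^ N := by
    intro i
    obtain ⟨L, hL⟩ := IsPrecomplete.prec' (I := J) (fun N => ∑ n ∈ Finset.range N, co n i)
      fun {m N} hmN => by
        rw [SModEq.sub_mem, Ideal.smul_eq_mul, Ideal.mul_top, ← neg_mem_iff, neg_sub,
          ← Finset.sum_Ico_eq_sub _ hmN]
        exact Ideal.sum_mem _ fun n hn => Ideal.pow_le_pow_right (Finset.mem_Ico.mp hn).1 (hc n _ _ i)
    exact ⟨L, fun N => by simpa only [SModEq.sub_mem, Ideal.smul_eq_mul, Ideal.mul_top] using hL N⟩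
  choose L hL using hlim
  have hx0 : x - ∑ i, L i * f i = 0 := by
    refine IsHausdorff.haus' (I := J) _ fun N => ?_
    rw [SModEq.sub_mem, sub_zero, Ideal.smul_eq_mul, Ideal.mul_top]
    have h1 : (seq N).1 ∈ J ^ N := Ideal.pow_le_pow_right (by omega) (seq N).2
    rw [← hseq] at h1
    have h2 : ∑ i, ((∑ n ∈ Finset.range N, co n i) - L i) * f i ∈ J ^ N :=
      Ideal.sum_mem _ fun i _ => Ideal.mul_mem_right _ _ (hL i N)
    convert add_mem h1 h2 using 1
    simp only [sub_mul, Finset.sum_sub_distrib]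
    ring
  rw [sub_eq_zero.mp hx0]
  exact Ideal.sum_mem _ fun i _ => Ideal.mul_mem_left _ _
    (Submodule.subset_span (Finset.mem_image_of_mem f (Finset.mem_univ i)))

end Groth.Agent.LocalCrit
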