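import Groth.Agent.LocalCrit.Flatness
import Groth.Agent.LocalCrit.Complete
import Mathlib.RingTheory.AdicCompletion.LocalRing

/-!
# Completion of a flat local algebra whose maximal ideal comes from the base
-/

universe u

open TensorProduct

namespace Groth.Agent.LocalCrit

variable {A : Type u} [CommRing A] {C : Type u} [CommRing C] [Algebra A C]

theorem smul_top_eq_map (J : Ideal A) {X : Type u} [CommRing X] [Algebra A X] (x : X) :
    x ∈ (J • ⊤ : Submodule A X) ↔ x ∈ J.map (algebraMap A X) := by
  rw [Ideal.smul_top_eq_map, Submodule.restrictScalars_mem]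

/-- If `α : C → B` is bijective modulo `J`, it is bijective after tensoring with `A ⧸ J`. -/
theorem lTensor_quotient_bijective {B : Type u} [CommRing B] [Algebra A B] (J : Ideal A)
    (α : C →ₐ[A] B) (hs : ∀ b, ∃ c, b - α c ∈ J.map (algebraMap A B))
    (hi : ∀ c, α c ∈ J.map (algebraMap A B) → c ∈ J.map (algebraMap A C)) :
    Function.Bijective (α.toLinearMap.lTensor (A ⧸ J)) := by
  let eC := TensorProduct.quotTensorEquivQuotSMul C J
  let eB := TensorProduct.quotTensorEquivQuotSMul B J
  let g : (C ⧸ (J • ⊤ : Submodule A C)) →ₗ[A] B ⧸ (J • ⊤ : Submodule A B) :=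
    Submodule.mapQ _ _ α.toLinearMap (fun x hx => by
      rw [Submodule.mem_comap, smul_top_eq_map]
      rw [smul_top_eq_map] at hx
      have := Ideal.mem_map_of_mem (α : C →+* B) hx
      rwa [Ideal.map_map, show (α : C →+* B).comp (algebraMap A C) = algebraMap A B from α.comp_algebraMap] at this)
  have key : ∀ x, eB (α.toLinearMap.lTensor (A ⧸ J) x) = g (eC x) := by
    intro x
    induction x using TensorProduct.induction_on with
    | zero => simp
    | add x y hx hy => simp only [map_add, hx, hy]
    | tmul q c =>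
      obtain ⟨a, rfl⟩ := Ideal.Quotient.mk_surjective q
      simp [eB, eC, g]
  have hg : Function.Bijective g := by
    constructor
    · rw [← LinearMap.ker_eq_bot, eq_bot_iff]
      intro q hq
      obtain ⟨c, rfl⟩ := Submodule.mkQ_surjective _ q
      rw [LinearMap.mem_ker] at hq
      simp only [g, Submodule.mkQ_apply, Submodule.mapQ_apply, Submodule.Quotient.mk_eq_zero,
        smul_top_eq_map, AlgHom.toLinearMap_apply] at hq
      simp [Submodule.Quotient.mk_eq_zero, smul_top_eq_map, hi c hq]
    · intro q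
      obtain ⟨b, rfl⟩ := Submodule.mkQ_surjective _ q
      obtain ⟨c, hc⟩ := hs b
      refine ⟨Submodule.Quotient.mk c, ?_⟩
      simp only [g, Submodule.mkQ_apply, Submodule.mapQ_apply, AlgHom.toLinearMap_apply]
      rw [Submodule.Quotient.eq, smul_top_eq_map, ← neg_mem_iff, neg_sub]
      exact hc
  have : (eB : _ → _) ∘ α.toLinearMap.lTensor (A ⧸ J) = g ∘ eC := funext key
  have hb : Function.Bijective ((eB : _ → _) ∘ α.toLinearMap.lTensor (A ⧸ J)) := this ▸ hg.comp eC.bijective
  exact ⟨fun x y h => hb.1 (by simp [h]), fun y => by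
    obtain ⟨x, hx⟩ := hb.2 (eB y)
    exact ⟨x, eB.injective hx⟩⟩

theorem keepsInjective_of_bijective_mod {B : Type u} [CommRing B] [Algebra A B] (J : Ideal A)
    [Module.Flat A C] (α : C →ₐ[A] B) (hs : ∀ b, ∃ c, b - α c ∈ J.map (algebraMap A B))
    (hi : ∀ c, α c ∈ J.map (algebraMap A B) → c ∈ J.map (algebraMap A C)) :
    KeepsInjective J B := by
  let f : (A ⧸ J) ⊗[A] C →ₗ[A ⧸ J] (A ⧸ J) ⊗[A] B := α.toLinearMap.baseChange (A ⧸ J)
  have hf : Function.Bijective f := lTensor_quotient_bijective J α hs hi
  have : Module.Flat (A ⧸ J) ((A ⧸ J) ⊗[A] B) :=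
    Module.Flat.of_linearEquiv (LinearEquiv.ofBijective f hf).symm
  exact keepsInjective_of_flat J B

variable [IsNoetherianRing A] [IsLocalRing A] [IsLocalRing C] [Module.Flat A C]
  (hmax : IsLocalRing.maximalIdeal C = (IsLocalRing.maximalIdeal A).map (algebraMap A C))

include hmax in
theorem maximalIdeal_fg : (IsLocalRing.maximalIdeal C).FG := by
  rw [hmax]
  exact Ideal.FG.map (IsNoetherian.noetherian (IsLocalRing.maximalIdeal A)) (algebraMap A C)

include hmax in
theorem isNoetherianRing_completion :
    IsNoetherianRing (AdicCompletion (IsLocalRing.maximalIdeal C) C) := by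
  have fg := maximalIdeal_fg hmax
  have := AdicCompletion.isLocalRing_of_fg fg
  have := AdicCompletion.isAdicComplete_of_fg fg
  letI := Ideal.Quotient.field (IsLocalRing.maximalIdeal (AdicCompletion (IsLocalRing.maximalIdeal C) C))
  refine isNoetherianRing_of_isAdicComplete (IsLocalRing.maximalIdeal _) ?_
  rw [AdicCompletion.maximalIdeal_eq_map_of_fg fg]
  exact fg.map _

include hmax in
theorem flat_completion : Module.Flat A (AdicCompletion (IsLocalRing.maximalIdeal C) C) := by
  let B := AdicCompletion (IsLocalRing.maximalIdeal C) C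
  have fg := maximalIdeal_fg hmax
  have := isNoetherianRing_completion hmax
  have := AdicCompletion.isLocalRing_of_fg fg
  have hle : (IsLocalRing.maximalIdeal A).map (algebraMap A B) ≤ IsLocalRing.maximalIdeal B := by
    rw [IsScalarTower.algebraMap_eq A C B, ← Ideal.map_map, ← hmax,
      AdicCompletion.maximalIdeal_eq_map_of_fg fg]
  refine flat_of_forall_quotient_pow (B := B) (IsLocalRing.maximalIdeal A)
    (hle.trans (IsLocalRing.maximalIdeal_le_jacobson _)) fun n => ?_
  let α : C →ₐ[A] B := IsScalarTower.toAlgHom A C B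
  have hJC : (IsLocalRing.maximalIdeal A ^ n).map (algebraMap A C) = IsLocalRing.maximalIdeal C ^ n := by
    rw [Ideal.map_pow, ← hmax]
  have hJB : ∀ b : B, b ∈ (IsLocalRing.maximalIdeal A ^ n).map (algebraMap A B) ↔
      AdicCompletion.eval (IsLocalRing.maximalIdeal C) C n b = 0 := by
    intro b
    rw [IsScalarTower.algebraMap_eq A C B, ← Ideal.map_map, hJC, ← smul_top_eq_map,
      AdicCompletion.pow_smul_top_eq_ker_eval fg, LinearMap.mem_ker]
  refine keepsInjective_of_bijective_mod _ α (fun b => ?_) fun c hc => ?_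
  · obtain ⟨c, hc⟩ := Submodule.mkQ_surjective _ (AdicCompletion.eval (IsLocalRing.maximalIdeal C) C n b)
    refine ⟨c, (hJB _).mpr ?_⟩
    rw [map_sub, ← hc, sub_eq_zero]
    exact (AdicCompletion.eval_of _ _ n c).symm
  · have := (hJB _).mp hc
    rw [show α c = AdicCompletion.of (IsLocalRing.maximalIdeal C) C c from rfl, AdicCompletion.eval_of,
      Submodule.mkQ_apply, Submodule.Quotient.mk_eq_zero] at this
    rw [hJC]
    simpa using this

include hmax in
theorem exists_completion_with_residueField {K : Type u} [Field K] (ψ : C →+* K)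
    (hψ : Function.Surjective ψ) :
    ∃ (B : Type u) (_ : CommRing B) (_ : Algebra A B), IsNoetherianRing B ∧ IsLocalRing B ∧
      IsLocalHom (algebraMap A B) ∧ Module.Flat A B ∧
      ∃ e : (B ⧸ (IsLocalRing.maximalIdeal A).map (algebraMap A B)) ≃+* K,
        ∀ a : A, e (Ideal.Quotient.mk _ (algebraMap A B a)) = ψ (algebraMap A C a) := by
  have fg := maximalIdeal_fg hmax
  have := AdicCompletion.isLocalRing_of_fg fg
  let B := AdicCompletion (IsLocalRing.maximalIdeal C) C
  have hmB : (IsLocalRing.maximalIdeal A).map (algebraMap A B) = IsLocalRing.maximalIdeal B := by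
    rw [IsScalarTower.algebraMap_eq A C B, ← Ideal.map_map, ← hmax,
      AdicCompletion.maximalIdeal_eq_map_of_fg fg]
  have hlh : IsLocalHom (algebraMap A B) :=
    ((IsLocalRing.local_hom_TFAE (algebraMap A B)).out 0 2).mpr hmB.le
  refine ⟨B, inferInstance, inferInstance, isNoetherianRing_completion hmax, inferInstance, hlh,
    flat_completion hmax, ?_⟩
  have hψk : RingHom.ker ψ = IsLocalRing.maximalIdeal C :=
    IsLocalRing.eq_maximalIdeal (RingHom.ker_isMaximal_of_surjective ψ hψ)
  let ev : B →+* C ⧸ IsLocalRing.maximalIdeal C := (AdicCompletion.evalOneₐ _).toRingHom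
  have hevs : Function.Surjective ev := AdicCompletion.evalOneₐ_surjective _
  have hψ0 : ∀ x ∈ IsLocalRing.maximalIdeal C, ψ x = 0 := fun x hx => RingHom.mem_ker.mp (hψk ▸ hx)
  let χ : B →+* K := (Ideal.Quotient.lift _ ψ hψ0).comp ev
  have hχs : Function.Surjective χ :=
    (Ideal.Quotient.lift_surjective_of_surjective _ hψ0 hψ).comp hevs
  have hχk : RingHom.ker χ = (IsLocalRing.maximalIdeal A).map (algebraMap A B) := by
    rw [hmB]
    exact IsLocalRing.eq_maximalIdeal (RingHom.ker_isMaximal_of_surjective χ hχs)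
  refine ⟨(Ideal.quotEquivOfEq hχk.symm).trans (RingHom.quotientKerEquivOfSurjective hχs), fun a => ?_⟩
  rw [RingEquiv.trans_apply, Ideal.quotEquivOfEq_mk, RingHom.quotientKerEquivOfSurjective_apply_mk]
  have h1 : ev (algebraMap A B a) = Ideal.Quotient.mk _ (algebraMap A C a) := by
    rw [IsScalarTower.algebraMap_apply A C B]
    exact (AdicCompletion.evalOneₐ (IsLocalRing.maximalIdeal C)).commutes _
  simp only [χ, RingHom.comp_apply, h1, Ideal.Quotient.lift_mk]

end Groth.Agent.LocalCrit
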