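import Mathlib.RingTheory.Flat.Basic
import Mathlib.RingTheory.Flat.Stability
import Mathlib.RingTheory.Flat.Tensor
import Mathlib.LinearAlgebra.Basis.VectorSpace
import Mathlib.Algebra.Module.Torsion.Basic
import Mathlib.RingTheory.Filtration
import Mathlib.RingTheory.TensorProduct.Finite
import Mathlib.LinearAlgebra.TensorProduct.RightExactness
import Mathlib.LinearAlgebra.TensorProduct.Quotient
import Mathlib.LinearAlgebra.TensorProduct.Pi
import Mathlib.RingTheory.Ideal.Quotient.Operations

/-!
# The local criterion of flatness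

* `rTensor_injective_of_smul_le`: if `I ⊗ M → M` is injective and tensoring with `M` keeps injective
  maps between modules killed by `I` injective, the same holds for every inclusion whose cokernel is
  killed by `I`.
* `flat_of_isNilpotent`, `flat_of_le_jacobson`: local criterion of flatness.
* `flat_of_forall_flat_quotient_pow`: flatness of all `M ⧸ I ^ n M` over `A` implies flatness of `M`.
* `flat_of_forall_quotient_pow`: flatness of all `M ⧸ I ^ n M` over `R ⧸ I ^ n` implies flatness of `M`.
-/

universe u v w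

open TensorProduct

namespace Groth.Agent.LocalCrit

variable {R : Type u} [CommRing R]

/-- Tensoring with `M` preserves injectivity of maps between modules killed by `I`. -/
def KeepsInjective (I : Ideal R) (M : Type v) [AddCommGroup M] [Module R M] : Prop :=
  ∀ ⦃N : Type (max u v)⦄ ⦃N' : Type (max u v)⦄ [AddCommGroup N] [Module R N] [AddCommGroup N']
    [Module R N'] (g : N →ₗ[R] N'), Module.IsTorsionBySet R N I → Module.IsTorsionBySet R N' I →
      Function.Injective g → Function.Injective (g.rTensor M)

section General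

variable (I : Ideal R) (M : Type u) [AddCommGroup M] [Module R M]

/-- Flatness of `(R ⧸ I) ⊗ M` over `R ⧸ I` gives `KeepsInjective I M`. -/
theorem keepsInjective_of_flat [Module.Flat (R ⧸ I) ((R ⧸ I) ⊗[R] M)] : KeepsInjective I M := by
  intro N N' _ _ _ _ g hN hN' hg
  letI := hN.module
  letI := hN'.module
  haveI : IsScalarTower R (R ⧸ I) N := hN.isScalarTower
  haveI : IsScalarTower R (R ⧸ I) N' := hN'.isScalarTower
  let g' : N →ₗ[R ⧸ I] N' :=
    { toFun := g
      map_add' := g.map_add
      map_smul' := fun c x => by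
        obtain ⟨c, rfl⟩ := Ideal.Quotient.mk_surjective c
        exact g.map_smul c x }
  let e : ∀ (P : Type u) [AddCommGroup P] [Module R P] [Module (R ⧸ I) P] [IsScalarTower R (R ⧸ I) P],
      P ⊗[R ⧸ I] ((R ⧸ I) ⊗[R] M) ≃ₗ[R] P ⊗[R] M := fun P _ _ _ _ =>
    (AlgebraTensorModule.cancelBaseChange R (R ⧸ I) (R ⧸ I) P M).restrictScalars R
  have h1 : Function.Injective (g'.rTensor ((R ⧸ I) ⊗[R] M)) :=
    Module.Flat.rTensor_preserves_injective_linearMap g' hg
  have h2 : ∀ x, g.rTensor M (e N x) = e N' (g'.rTensor _ x) := by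
    intro x
    induction x using TensorProduct.induction_on with
    | zero => simp
    | tmul p y =>
      induction y using TensorProduct.induction_on with
      | zero => simp
      | tmul c m =>
        obtain ⟨c, rfl⟩ := Ideal.Quotient.mk_surjective c
        simp [e, g']
      | add y z hy hz => simp only [tmul_add, map_add, hy, hz]
    | add x y hx hy => simp only [map_add, hx, hy]
  intro x y hxy
  obtain ⟨x, rfl⟩ := (e N).surjective x
  obtain ⟨y, rfl⟩ := (e N).surjective y
  rw [h2, h2] at hxy
  exact congrArg (e N) (h1 ((e N').injective hxy))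

/-- A maximal ideal always keeps injectivity. -/
theorem keepsInjective_of_isMaximal [hI : I.IsMaximal] : KeepsInjective I M := by
  letI := Ideal.Quotient.field I
  exact keepsInjective_of_flat I M

/-- The tensor product with a free module of an injective `I ⊗ M → M` is injective. -/
theorem rTensor_smul_top_injective (hI : Function.Injective (I.subtype.rTensor M))
    (F : Type u) [AddCommGroup F] [Module R F] [Module.Free R F] :
    Function.Injective ((I • ⊤ : Submodule R F).subtype.rTensor M) := by
  let f : ↥I ⊗[R] F →ₗ[R] (I • ⊤ : Submodule R F) :=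
    LinearMap.codRestrict _ ((TensorProduct.lid R F).toLinearMap ∘ₗ I.subtype.rTensor F) (by
      intro x
      induction x using TensorProduct.induction_on with
      | zero => simp
      | tmul a b => simpa using Submodule.smul_mem_smul a.2 Submodule.mem_top
      | add x y hx hy => simpa [map_add] using add_mem hx hy)
  have hf : Function.Surjective f := by
    rintro ⟨x, hx⟩
    induction hx using Submodule.smul_induction_on' with
    | smul a ha y hy => exact ⟨(⟨a, ha⟩ : I) ⊗ₜ y, by ext; simp [f]⟩
    | add x hx y hy hx' hy' =>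
      obtain ⟨p, hp⟩ := hx'; obtain ⟨q, hq⟩ := hy'
      exact ⟨p + q, by ext; simp [hp, hq]⟩
  -- `(I ⊗ F) ⊗ M = (I ⊗ M) ⊗ F → M ⊗ F` is injective
  have key : Function.Injective (((I • ⊤ : Submodule R F).subtype.rTensor M) ∘ₗ f.rTensor M) := by
    have h1 : Function.Injective ((I.subtype.rTensor M).rTensor F) :=
      Module.Flat.rTensor_preserves_injective_linearMap _ hI
    have h2 : ((I • ⊤ : Submodule R F).subtype.rTensor M) ∘ₗ f.rTensor M =
        ((TensorProduct.comm R M F).toLinearMap ∘ₗ
          ((TensorProduct.lid R M).toLinearMap.rTensor F) ∘ₗ (I.subtype.rTensor M).rTensor F) ∘ₗ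
          (TensorProduct.rightComm R ↥I F M).toLinearMap := by
      refine TensorProduct.ext_threefold fun a b m => ?_
      simp [f, smul_tmul]
    rw [h2]
    simp only [LinearMap.coe_comp, LinearEquiv.coe_coe]
    exact ((TensorProduct.comm R M F).injective.comp
      (((TensorProduct.lid R M).rTensor F).injective.comp h1)).comp
        (TensorProduct.rightComm R ↥I F M).injective
  intro x y hxy
  obtain ⟨x, rfl⟩ := LinearMap.rTensor_surjective M hf x
  obtain ⟨y, rfl⟩ := LinearMap.rTensor_surjective M hf y
  exact congrArg _ (key hxy)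

theorem rTensor_injective_of_smul_le_free (hI : Function.Injective (I.subtype.rTensor M))
    (hK : KeepsInjective I M) {F : Type u} [AddCommGroup F] [Module R F] [Module.Free R F]
    (K : Submodule R F) (h : I • ⊤ ≤ K) : Function.Injective (K.subtype.rTensor M) := by
  rw [← LinearMap.ker_eq_bot, eq_bot_iff]
  intro x hx
  rw [LinearMap.mem_ker] at hx
  set T : Submodule R F := I • ⊤
  let g : (↥K ⧸ T.comap K.subtype) →ₗ[R] F ⧸ T := Submodule.mapQ _ _ K.subtype le_rfl
  have hg : Function.Injective g := by
    rw [← LinearMap.ker_eq_bot]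
    simp [g, Submodule.ker_mapQ]
  have hT : Module.IsTorsionBySet R (F ⧸ T) I := by
    rintro y ⟨a, ha⟩
    obtain ⟨y, rfl⟩ := T.mkQ_surjective y
    rw [← map_smul, Submodule.mkQ_apply, Submodule.Quotient.mk_eq_zero]
    exact Submodule.smul_mem_smul ha Submodule.mem_top
  have hT' : Module.IsTorsionBySet R (↥K ⧸ T.comap K.subtype) I := fun y a =>
    hg (by rw [map_smul, map_zero]; exact @hT (g y) a)
  have h1 : (T.comap K.subtype).mkQ.rTensor M x = 0 := by
    apply hK g hT' hT hg
    rw [map_zero, ← LinearMap.comp_apply, ← LinearMap.rTensor_comp, Submodule.mapQ_mkQ,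
      LinearMap.rTensor_comp, LinearMap.comp_apply, hx, map_zero]
  obtain ⟨y, rfl⟩ := (rTensor_exact M (LinearMap.exact_subtype_mkQ _)
    (Submodule.mkQ_surjective _) x).mp h1
  let e : ↥(T.comap K.subtype) →ₗ[R] T :=
    LinearMap.codRestrict T (K.subtype ∘ₗ (T.comap K.subtype).subtype) fun z => z.2
  have he : T.subtype ∘ₗ e = K.subtype ∘ₗ (T.comap K.subtype).subtype := by ext; rfl
  let e' : T →ₗ[R] ↥(T.comap K.subtype) :=
    LinearMap.codRestrict _ (Submodule.inclusion h) fun z => z.2
  have hee : e' ∘ₗ e = LinearMap.id := by ext; rfl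
  have hy : e.rTensor M y = 0 := by
    apply rTensor_smul_top_injective I M hI F
    rw [map_zero, ← LinearMap.comp_apply, ← LinearMap.rTensor_comp, he, LinearMap.rTensor_comp,
      LinearMap.comp_apply, hx]
  have : y = 0 := by
    have := congrArg (e'.rTensor M) hy
    rwa [← LinearMap.comp_apply, ← LinearMap.rTensor_comp, hee, LinearMap.rTensor_id,
      LinearMap.id_apply, map_zero] at this
  simp [this]

/-- If `I ⊗ M → M` is injective and `KeepsInjective I M`, then any inclusion with cokernel killed by
`I` stays injective after tensoring with `M` (`Tor₁(N, M) = 0` for `N` killed by `I`). -/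
theorem rTensor_injective_of_smul_le (hI : Function.Injective (I.subtype.rTensor M))
    (hK : KeepsInjective I M) {N : Type u} [AddCommGroup N] [Module R N]
    (N' : Submodule R N) (h : I • ⊤ ≤ N') : Function.Injective (N'.subtype.rTensor M) := by
  let p := Finsupp.linearCombination R (id : N → N)
  have hp : Function.Surjective p := Finsupp.linearCombination_id_surjective R N
  let L := N'.comap p
  have hL : I • ⊤ ≤ L := by
    rw [Submodule.smul_le]
    exact fun a ha x _ => by
      simpa [L] using h (Submodule.smul_mem_smul ha (Submodule.mem_top (x := p x)))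
  let q : L →ₗ[R] N' := LinearMap.codRestrict N' (p ∘ₗ L.subtype) fun z => z.2
  have hq : Function.Surjective q := by
    rintro ⟨z, hz⟩
    obtain ⟨w, rfl⟩ := hp z
    exact ⟨⟨w, hz⟩, by ext; rfl⟩
  have hinj := rTensor_injective_of_smul_le_free I M hI hK L hL
  rw [← LinearMap.ker_eq_bot, eq_bot_iff]
  intro x hx
  rw [LinearMap.mem_ker] at hx
  obtain ⟨x', rfl⟩ := LinearMap.rTensor_surjective M hq x
  have h1 : p.rTensor M (L.subtype.rTensor M x') = 0 := by
    rw [← LinearMap.comp_apply, ← LinearMap.rTensor_comp] at hx ⊢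
    exact hx
  have hex : Function.Exact (LinearMap.ker p).subtype p :=
    LinearMap.exact_iff.mpr (Submodule.range_subtype (LinearMap.ker p)).symm
  obtain ⟨z, hz⟩ := (rTensor_exact (M := ↥(LinearMap.ker p)) M hex hp _).mp h1
  let k : LinearMap.ker p →ₗ[R] L :=
    Submodule.inclusion (fun w hw => by simp [L, LinearMap.mem_ker.mp hw])
  have : x' = k.rTensor M z := hinj (by
    rw [← hz, ← LinearMap.comp_apply, ← LinearMap.rTensor_comp]; rfl)
  have hqk : q ∘ₗ k = 0 := by
    ext w; exact LinearMap.mem_ker.mp w.2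
  simp [this, ← LinearMap.comp_apply, ← LinearMap.rTensor_comp, hqk]

theorem rTensor_sup_pow_injective (hI : Function.Injective (I.subtype.rTensor M))
    (hK : KeepsInjective I M) (J : Ideal R) (n : ℕ) :
    Function.Injective ((J ⊔ I ^ n : Ideal R).subtype.rTensor M) := by
  induction n with
  | zero =>
    rw [pow_zero, Ideal.one_eq_top, sup_top_eq]
    let e : R ≃ₗ[R] (⊤ : Ideal R) := Submodule.topEquiv.symm
    have h : (⊤ : Ideal R).subtype = e.symm.toLinearMap := rfl
    rw [h]
    exact (e.symm.rTensor M).injective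
  | succ n ih =>
    set A : Ideal R := J ⊔ I ^ (n + 1)
    set B : Ideal R := J ⊔ I ^ n
    have hAB : A ≤ B := sup_le_sup_left (Ideal.pow_le_pow_right n.le_succ) J
    have h : I • ⊤ ≤ Submodule.comap (Submodule.subtype B) A := by
      rw [Submodule.smul_le]
      rintro a ha ⟨x, hx⟩ -
      obtain ⟨y, hy, z, hz, rfl⟩ := Submodule.mem_sup.mp hx
      change a * (y + z) ∈ A
      rw [mul_add]
      exact add_mem (Submodule.mem_sup_left (J.mul_mem_left a hy))
        (Submodule.mem_sup_right (by rw [pow_succ']; exact Ideal.mul_mem_mul ha hz))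
    let e : A ≃ₗ[R] Submodule.comap (Submodule.subtype B) A := (Submodule.comapSubtypeEquivOfLe hAB).symm
    have : A.subtype = B.subtype ∘ₗ (Submodule.comap (Submodule.subtype B) A).subtype ∘ₗ e.toLinearMap := by ext; rfl
    rw [this, LinearMap.rTensor_comp, LinearMap.rTensor_comp, LinearMap.coe_comp, LinearMap.coe_comp]
    exact ih.comp ((rTensor_injective_of_smul_le I M hI hK _ h).comp (e.rTensor M).injective)

/-- Local criterion of flatness for a nilpotent ideal. -/
theorem flat_of_isNilpotent (hnil : IsNilpotent I) (hI : Function.Injective (I.subtype.rTensor M))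
    (hK : KeepsInjective I M) : Module.Flat R M := by
  obtain ⟨n, hn⟩ := hnil
  rw [Module.Flat.iff_rTensor_injective']
  intro J
  have := rTensor_sup_pow_injective I M hI hK J n
  have hJ : J ⊔ I ^ n = J := by rw [hn, Ideal.zero_eq_bot, sup_bot_eq]
  rw [hJ] at this
  exact this

end General

section Jacobson

variable {B : Type v} [CommRing B] [Algebra R B]

theorem smul_mem_smul_top_of_mem {N : Type w} [AddCommGroup N] [Module R N] [Module B N]
    [IsScalarTower R B N] (I : Ideal R) {n : ℕ} {a : R} (ha : a ∈ I ^ n) (x : N) :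
    a • x ∈ (I.map (algebraMap R B)) ^ n • (⊤ : Submodule B N) := by
  rw [← IsScalarTower.algebraMap_smul B a x, ← Ideal.map_pow]
  exact Submodule.smul_mem_smul (Ideal.mem_map_of_mem _ ha) Submodule.mem_top

variable [IsNoetherianRing B] {M : Type u} [AddCommGroup M] [Module R M]
  [Module B M] [IsScalarTower R B M] [Module.Finite B M]

theorem finite_tensor {A : Type u} [CommRing A] {C : Type v} [CommRing C] [Algebra A C]
    (P : Type w) [AddCommGroup P] [Module A P] [Module C P] [IsScalarTower A C P]
    [Module.Finite C P] (N : Type u) [AddCommGroup N] [Module A N] [Module.Finite A N] :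
    Module.Finite C (P ⊗[A] N) := by
  obtain ⟨k, f, hf⟩ := Module.Finite.exists_fin' A N
  let π : (Fin k → A) →ₗ[A] N := f
  let e : (P ⊗[A] (Fin k → A)) ≃ₗ[C] (Fin k → P) := TensorProduct.piScalarRight A C P (Fin k)
  refine Module.Finite.of_surjective
    ((AlgebraTensorModule.map (LinearMap.id : P →ₗ[C] P) π) ∘ₗ e.symm.toLinearMap) ?_
  exact (LinearMap.lTensor_surjective P hf).comp e.symm.surjective

theorem eq_zero_of_forall_mem_smul (I : Ideal B) (hI : I ≤ Ideal.jacobson ⊥) {N : Type w}
    [AddCommGroup N] [Module B N] [Module.Finite B N] {x : N}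
    (h : ∀ n, x ∈ (I ^ n • ⊤ : Submodule B N)) : x = 0 := by
  rw [← Submodule.mem_bot B, ← Ideal.iInf_pow_smul_eq_bot_of_le_jacobson I hI]
  exact Submodule.mem_iInf _ |>.mpr h

variable [IsNoetherianRing R] (I : Ideal R)

/-- Flatness follows when, for all ideals `J`, the maps `(J + I ^ n) / I ^ n ⊗ M → R / I ^ n ⊗ M`
are injective, in the form used below. -/
theorem flat_of_forall_sup_pow (hI : I.map (algebraMap R B) ≤ Ideal.jacobson ⊥)
    (h : ∀ (J : Ideal R) (n : ℕ) (x : J ⊗[R] M), J.subtype.rTensor M x = 0 →
      x ∈ LinearMap.range ((Submodule.comap (Submodule.subtype J) (I ^ n)).subtype.rTensor M)) :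
    Module.Flat R M := by
  rw [Module.Flat.iff_rTensor_injective']
  intro J
  rw [← LinearMap.ker_eq_bot, eq_bot_iff]
  intro x hx
  rw [LinearMap.mem_ker] at hx
  obtain ⟨c, hc⟩ := Ideal.exists_pow_inf_eq_pow_smul I (J : Submodule R R)
  let τ := TensorProduct.comm R ↥J M
  suffices τ x = 0 by simpa using this
  have := finite_tensor (A := R) (C := B) M ↥J
  apply eq_zero_of_forall_mem_smul (I.map (algebraMap R B)) hI
  intro n
  obtain ⟨y, hy⟩ := h J (n + c) x hx
  rw [← hy]
  clear hy
  induction y using TensorProduct.induction_on with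
  | zero => simp
  | add y z hy hz =>
    simp only [map_add]
    exact add_mem hy hz
  | tmul j m =>
    simp only [LinearMap.rTensor_tmul, Submodule.subtype_apply, τ, comm_tmul]
    -- `j ∈ J ∩ I ^ (n + c) = I ^ n • (I ^ c ∩ J)`
    have hj : ((j : J) : R) ∈ I ^ n • (I ^ c • ⊤ ⊓ J : Submodule R R) := by
      have := hc (n + c) (Nat.le_add_left c n)
      rw [Nat.add_sub_cancel] at this
      rw [← this]
      exact ⟨show ((j : J) : R) ∈ (I ^ (n + c) • ⊤ : Submodule R R) by rw [Ideal.smul_eq_mul, Ideal.mul_top]; exact j.2, (j : J).2⟩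
    have key : ∀ z ∈ I ^ n • (I ^ c • ⊤ ⊓ J : Submodule R R), ∀ hz : z ∈ J,
        m ⊗ₜ[R] (⟨z, hz⟩ : J) ∈ (I.map (algebraMap R B)) ^ n • (⊤ : Submodule B (M ⊗[R] J)) := by
      intro z hz
      induction hz using Submodule.smul_induction_on' with
      | smul a ha w hw =>
        intro hz'
        have : (⟨a • w, hz'⟩ : J) = a • (⟨w, hw.2⟩ : J) := rfl
        rw [this, tmul_smul]
        exact smul_mem_smul_top_of_mem I ha _
      | add p hp q hq hp' hq' =>
        intro hz'
        have hpJ : p ∈ J := Submodule.smul_le_right.trans inf_le_right hp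
        have hqJ : q ∈ J := Submodule.smul_le_right.trans inf_le_right hq
        have : (⟨p + q, hz'⟩ : J) = ⟨p, hpJ⟩ + ⟨q, hqJ⟩ := rfl
        rw [this, tmul_add]
        exact add_mem (hp' hpJ) (hq' hqJ)
    exact key _ hj (j : J).2

/-- Local criterion of flatness. -/
theorem flat_of_le_jacobson (hI : I.map (algebraMap R B) ≤ Ideal.jacobson ⊥)
    (h1 : Function.Injective (I.subtype.rTensor M)) (hK : KeepsInjective I M) :
    Module.Flat R M := by
  refine flat_of_forall_sup_pow (B := B) I hI fun J n x hx => ?_
  let i : J →ₗ[R] (J ⊔ I ^ n : Ideal R) := Submodule.inclusion le_sup_left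
  have hix : i.rTensor M x = 0 := rTensor_sup_pow_injective I M h1 hK J n (by
    rw [map_zero, ← LinearMap.comp_apply, ← LinearMap.rTensor_comp]; exact hx)
  let T : Submodule R (J ⊔ I ^ n : Ideal R) := Submodule.comap (Submodule.subtype _) (I ^ n)
  let f : ↥J →ₗ[R] (↥(J ⊔ I ^ n) ⧸ T) := T.mkQ ∘ₗ i
  have hf : Function.Surjective f := by
    intro q
    obtain ⟨⟨q, hq⟩, rfl⟩ := T.mkQ_surjective q
    obtain ⟨a, ha, b, hb, rfl⟩ := Submodule.mem_sup.mp hq
    refine ⟨⟨a, ha⟩, (Submodule.Quotient.eq T).mpr ?_⟩
    simpa [T, i, Submodule.mem_comap] using hb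
  have hex : Function.Exact (Submodule.comap (Submodule.subtype J) (I ^ n)).subtype f := by
    intro j
    rw [LinearMap.comp_apply, Submodule.mkQ_apply, Submodule.Quotient.mk_eq_zero]
    exact ⟨fun hj => ⟨⟨j, hj⟩, rfl⟩, by rintro ⟨⟨k, hk⟩, rfl⟩; exact hk⟩
  refine (rTensor_exact M hex hf x).mp ?_
  rw [LinearMap.rTensor_comp, LinearMap.comp_apply, hix, map_zero]

/-- If every `M ⧸ I ^ n M` is flat over `R ⧸ I ^ n`, then `M` is flat. -/
theorem flat_of_forall_quotient_pow (hI : I.map (algebraMap R B) ≤ Ideal.jacobson ⊥)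
    (h : ∀ n, KeepsInjective (I ^ n) M) : Module.Flat R M := by
  refine flat_of_forall_sup_pow (B := B) I hI fun J n x hx => ?_
  set S : Submodule R J := Submodule.comap (Submodule.subtype J) (I ^ n)
  let g : (↥J ⧸ S) →ₗ[R] R ⧸ (I ^ n) := Submodule.mapQ _ _ J.subtype le_rfl
  have hg : Function.Injective g := by
    rw [← LinearMap.ker_eq_bot]; simp [g, S, Submodule.ker_mapQ]
  have hT : Module.IsTorsionBySet R (R ⧸ (I ^ n)) (I ^ n : Ideal R) := by
    rintro y ⟨a, ha⟩
    obtain ⟨y, rfl⟩ := Ideal.Quotient.mk_surjective y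
    change Ideal.Quotient.mk (I ^ n) (a * y) = 0
    exact Ideal.Quotient.eq_zero_iff_mem.mpr ((I ^ n).mul_mem_right y ha)
  have hT' : Module.IsTorsionBySet R (↥J ⧸ S) (I ^ n : Ideal R) := fun y a =>
    hg (by rw [map_smul, map_zero]; exact @hT (g y) a)
  have h0 : S.mkQ.rTensor M x = 0 := h n g hT' hT hg (by
    rw [map_zero, ← LinearMap.comp_apply, ← LinearMap.rTensor_comp, Submodule.mapQ_mkQ,
      LinearMap.rTensor_comp, LinearMap.comp_apply, hx, map_zero])
  exact (rTensor_exact M (LinearMap.exact_subtype_mkQ _) (Submodule.mkQ_surjective _) x).mp h0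

end Jacobson

section QuotientFlat

/-- If all `M ⧸ I ^ n M` (`n ≥ 1`) are flat over `A`, where `I` lies in the Jacobson radical of the
Noetherian ring `B` and `M` is finite over `B`, then `M` is flat over `A`. -/
theorem flat_of_forall_flat_quotient_pow {A : Type u} {B : Type v} {M : Type w} [CommRing A]
    [CommRing B] [IsNoetherianRing B] [Algebra A B] [AddCommGroup M] [Module A M] [Module B M]
    [IsScalarTower A B M] [Module.Finite B M] (I : Ideal B) (hI : I ≤ Ideal.jacobson ⊥)
    (h : ∀ n : ℕ, Module.Flat A (M ⧸ (I ^ (n + 1) • (⊤ : Submodule B M)))) :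
    Module.Flat A M := by
  rw [Module.Flat.iff_rTensor_injective]
  intro J hJ
  haveI : Module.Finite A J := ⟨(Submodule.fg_top _).mpr hJ⟩
  rw [← LinearMap.ker_eq_bot, eq_bot_iff]
  intro x hx
  rw [LinearMap.mem_ker] at hx
  suffices TensorProduct.comm A ↥J M x = 0 by simpa using this
  have := finite_tensor (A := A) (C := B) M ↥J
  apply eq_zero_of_forall_mem_smul I hI
  intro n
  rcases n with _ | n
  · simp
  haveI := h n
  set T : Submodule B M := I ^ (n + 1) • ⊤
  let q : M →ₗ[A] M ⧸ T := T.mkQ.restrictScalars A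
  have h0 : q.lTensor J x = 0 := by
    apply Module.Flat.rTensor_preserves_injective_linearMap (M := M ⧸ T) J.subtype
      J.injective_subtype
    rw [map_zero, ← LinearMap.comp_apply, LinearMap.rTensor_comp_lTensor,
      ← LinearMap.lTensor_comp_rTensor, LinearMap.comp_apply, hx, map_zero]
  have hex : Function.Exact (T.subtype.restrictScalars A) q := fun m => by
    simp [q, Submodule.Quotient.mk_eq_zero]
  obtain ⟨y, rfl⟩ := (lTensor_exact ↥J hex T.mkQ_surjective x).mp h0
  clear hx h0
  induction y using TensorProduct.induction_on with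
  | zero => simp
  | add y z hy hz => simp only [map_add]; exact add_mem hy hz
  | tmul j m =>
    simp only [LinearMap.lTensor_tmul, LinearMap.coe_restrictScalars, Submodule.subtype_apply,
      comm_tmul]
    have key : ∀ z ∈ T, z ⊗ₜ[A] j ∈ (I ^ (n + 1) • ⊤ : Submodule B (M ⊗[A] J)) := by
      intro z hz
      induction hz using Submodule.smul_induction_on' with
      | smul a ha w hw =>
        rw [← smul_tmul' a w j]
        exact Submodule.smul_mem_smul ha Submodule.mem_top
      | add p _ q _ hp hq => rw [add_tmul]; exact add_mem hp hq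
    exact key _ m.2

end QuotientFlat

end Groth.Agent.LocalCrit
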